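import Cfsg.Agent.H343.S8.Cover2
import Cfsg.Agent.H529.S8.Cov

/-!
# S4908, `Fi₂₂`: `CoverAt 2` (helper343)
-/

set_option autoImplicit false

namespace Cfsg.Agent.H343.S8

open Cfsg

universe u v

/-- **COVER of `Fi₂₂` at the prime 2** -/
theorem coverAt {X : Type v} [Group X] (hX : Cfsg.Spor.IsoFi22 X) {D : Set ℕ} (hD : H704.S8.Deg 2 X D) :
    H529.S8.CoverAt.{u} 2 2 D X := by
  intro N _ _ V _ hV hc hp e i hi
  obtain ⟨χ, d, h1, h2, h4, h5⟩ := cover2 hX hD V hV hc hp e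
  exact ⟨χ, d, h1, h2, h4, (h5 i hi).1, Or.inl (h5 i hi).2⟩

end Cfsg.Agent.H343.S8
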