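import Cfsg.Agent.H343.S8.Cover2
import Cfsg.Agent.H95.StemCover
import Cfsg.Agent.S2053

/-!
# S4908, `Fi₂₂`: COVER from the case `r = 3` (helper343)

`row` : `Cover3 2 D X` for `X` isomorphic to `Fi₂₂`, from the case `r = 3` (helper494's box COVER3).
-/

set_option autoImplicit false

namespace Cfsg.Agent.H343.S8

open Cfsg Subgroup

universe u v

/-- the case `r = 3` of `Cover3` -/
def ThreePart (D : Set ℕ) (X : Type v) [Group X] : Prop :=
  ∀ {N : Type u} [Group N] [Finite N] (V : Subgroup N) [V.Normal], Nat.card V = 3 → V ≤ Subgroup.center N →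
    commutator N = ⊤ → Nonempty ((N ⧸ V) ≃* X) → ∀ i : ℕ, 3 ^ (2 * i) < 2 * Nat.card (ConjClasses X) →
    ∃ (χ : N → ℂ) (d : ℕ), IsIrrCharacter N χ ∧ (∃ v ∈ V, χ v ≠ χ 1) ∧ χ 1 = d ∧
      d * 3 ^ i ∉ D ∧ (2 * (d * 3 ^ i) ∉ D ∨ ¬ charDegrees (MulAut X) ⊆ D)

theorem row {X : Type v} [Group X] (hX : Cfsg.Spor.IsoFi22 X) {D : Set ℕ} (hD : H704.S8.Deg 2 X D)
    (h3 : ThreePart.{u} D X) : H704.S8.Cover3.{u} 2 D X := by
  intro N _ _ V _ r hr hV hc hp e i hi
  have hr6 : r = 2 ∨ r = 3 := by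
    obtain ⟨f⟩ := e
    obtain ⟨g⟩ : Nonempty (X ≃* Cfsg.Spor.Fi22) := hX
    let π : N →* Cfsg.Spor.Fi22 := (g.toMonoidHom.comp f.toMonoidHom).comp (QuotientGroup.mk' V)
    have hk' : π.ker = V := by
      ext x
      rw [MonoidHom.mem_ker]
      change g (f (QuotientGroup.mk' V x)) = 1 ↔ _
      rw [map_eq_one_iff g g.injective, map_eq_one_iff f f.injective, QuotientGroup.mk'_apply,
        QuotientGroup.eq_one_iff]
    have h1 := H95.StemCover.card_ker_dvd_cyclic S2053.result hp π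
      ((g.surjective.comp f.surjective).comp (QuotientGroup.mk'_surjective V)) (by rw [hk']; exact hc)
    rw [hk', hV] at h1
    have h2 : r ∣ 2 * 3 := h1
    rcases hr.dvd_mul.1 h2 with h | h
    · exact Or.inl ((Nat.prime_dvd_prime_iff_eq hr Nat.prime_two).1 h)
    · exact Or.inr ((Nat.prime_dvd_prime_iff_eq hr Nat.prime_three).1 h)
  rcases hr6 with rfl | rfl
  · obtain ⟨χ, d, h1, h2, h4, h5⟩ := cover2 hX hD V hV hc hp e
    exact ⟨χ, d, h1, h2, h4, (h5 i hi).1, Or.inl (h5 i hi).2⟩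
  · exact h3 V hV hc hp e i hi

end Cfsg.Agent.H343.S8
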