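import Cfsg.Agent.H343.S8.Deg22
import Cfsg.Agent.KFacts.MulEven.Fi22
import Cfsg.Agent.H878.EPX.FiK
import Cfsg.Agent.H109.S8.AutDeg
import Cfsg.Agent.H704.S8.Defs3
import Cfsg.Agent.S2079

/-!
# S4908, `Fi₂₂`, COVER for `r = 2` (helper343)

`cover2` : a perfect central extension of `Fi₂₂` by a group of order two has a faithful irreducible character of degree
352, and `352 · 2 ^ i`, `704 · 2 ^ i` (`i ≤ 3`, i.e. `2 ^ (2 i) < 2 k(Fi₂₂)`) are not degrees of `Fi₂₂` or `Aut Fi₂₂`.
-/

set_option autoImplicit false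
set_option linter.unusedSectionVars false

namespace Cfsg.Agent.H343.S8

open Cfsg Subgroup Cfsg.Agent.Fischer.Abstract
open Cfsg.Agent.KFacts.FiTTh.BasInv (finite)
open Cfsg.Agent.Characters.Core Cfsg.Agent.H424.DegTools
open Cfsg.Agent.KFacts.MulDef Cfsg.Agent.KFacts.MulBound
open Cfsg.Agent.Fischer.Fi23Class (K)
open Cfsg.Agent.R08.FiTwentyThree (zK coe_zK zz central mem_K_iff zK_ne pi pi_surjective pi_ker perfect)
open Cfsg.Spor (Fi23 Fi22)

universe u v

theorem dblK : Dbl pi zK where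
  ne := zK_ne
  sq := zz
  cen := central
  perf := perfect
  surj := pi_surjective
  ker := pi_ker

/-- the character of a double cover -/
theorem exists_chi {N : Type u} [Group N] [Finite N] {π : N →* Fi22} {c : N} (h : Dbl π c) :
    ∃ χ : N → ℂ, IsIrrCharacter N χ ∧ χ c ≠ χ 1 ∧ χ 1 = (352 : ℕ) := by
  have := finite
  obtain ⟨θ₀, hz, h352⟩ := exists_theta
  obtain ⟨N', _, _, ⟨e⟩⟩ := exists_type_zero N
  have h' := h.of_equiv e (MulEquiv.refl _)
  obtain ⟨θ, hθ⟩ := Cfsg.Agent.KFacts.MulEven.Fi22.oneCover.uniq' h' dblK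
  let f : N →* K := θ.toMonoidHom.comp e.toMonoidHom
  have hf : Function.Surjective f := θ.surjective.comp e.surjective
  have h1 : f c = zK := by
    have h2 : pi (f c) = 1 := by
      have h3 := hθ (e c)
      change pi (f c) = _ at h3
      rw [h3]
      exact (h'.ker (e c)).2 (Or.inr rfl)
    rcases (dblK.ker _).1 h2 with h3 | h3
    · exfalso
      apply h.ne
      have h4 : e c = 1 := θ.injective (by rw [map_one]; exact h3)
      exact e.injective (by rw [map_one]; exact h4)
    · exact h3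
  refine ⟨(θ₀ : K → ℂ) ∘ f, isIrr_comp f hf θ₀.2, ?_, ?_⟩
  · rw [Function.comp_apply, Function.comp_apply, h1, map_one, hz, h352]
    norm_num
  · rw [Function.comp_apply, map_one]
    exact h352

theorem center22 : Subgroup.center Fi22 = ⊥ := by
  have := simple22
  rcases IsSimpleGroup.eq_bot_or_eq_top_of_normal (Subgroup.center Fi22) inferInstance with h | h
  · exact h
  · exfalso
    have hcomm : ∀ a b : Fi22, a * b = b * a := fun a b => by
      have : b ∈ Subgroup.center Fi22 := by rw [h]; trivial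
      exact Subgroup.mem_center_iff.1 this a
    let _ : CommGroup Fi22 := { (inferInstance : Group Fi22) with mul_comm := hcomm }
    have := finite22
    have h1 : (Nat.card Fi22).Prime := IsSimpleGroup.prime_card
    rw [card22] at h1
    norm_num at h1

theorem index22 : (MulAut.conj : Fi22 →* MulAut Fi22).range.index = 2 := by
  rw [← H55.OutGen.card_out_eq_index]
  exact Cfsg.Agent.S2079.result

/-- `11 · 2 ^ k`, `5 ≤ k ≤ 9`, is not a degree of `Aut Fi₂₂` -/
theorem not_mem_aut {k : ℕ} (h5 : 5 ≤ k) (h9 : k ≤ 9) : 11 * 2 ^ k ∉ charDegrees (MulAut Fi22) := by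
  have := finite22
  intro h
  rcases H109.S8.deg_aut center22 index22 h with h1 | ⟨χ, χ', f, -, h3, -, h4⟩
  · exact not_mem (by omega) h9 h1
  · refine not_mem (k := k - 1) (by omega) (by omega) ?_
    obtain ⟨j, rfl⟩ : ∃ j, k = j + 1 := ⟨k - 1, by omega⟩
    have h6 : f = 11 * 2 ^ (j + 1 - 1) := by
      rw [Nat.add_sub_cancel]
      rw [pow_succ] at h4
      omega
    rw [← h6]
    exact ⟨χ, Blocks.Basic.charDegree_of_eq h3⟩

theorem mulAut_congr {X : Type v} [Group X] (e : X ≃* Fi22) : charDegrees (MulAut X) = charDegrees (MulAut Fi22) :=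
  charDegrees_congr (MulAut.congr e)

theorem not_mem_D {X : Type v} [Group X] (hX : Cfsg.Spor.IsoFi22 X) {D : Set ℕ} (hD : H704.S8.Deg 2 X D) {k : ℕ}
    (h5 : 5 ≤ k) (h9 : k ≤ 9) : 11 * 2 ^ k ∉ D := by
  obtain ⟨e⟩ : Nonempty (X ≃* Fi22) := hX
  rcases hD with rfl | ⟨-, rfl⟩
  · rw [charDegrees_congr e]
    exact not_mem (by omega) h9
  · rw [mulAut_congr e]
    exact not_mem_aut h5 h9

/-- **COVER for `r = 2`** -/
theorem cover2 {X : Type v} [Group X] (hX : Cfsg.Spor.IsoFi22 X) {D : Set ℕ} (hD : H704.S8.Deg 2 X D)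
    {N : Type u} [Group N] [Finite N] (V : Subgroup N) [V.Normal] (hV : Nat.card V = 2)
    (hc : V ≤ Subgroup.center N) (hp : commutator N = ⊤) (e : Nonempty ((N ⧸ V) ≃* X)) :
    ∃ (χ : N → ℂ) (d : ℕ), IsIrrCharacter N χ ∧ (∃ v ∈ V, χ v ≠ χ 1) ∧ χ 1 = d ∧
      ∀ i : ℕ, 2 ^ (2 * i) < 2 * Nat.card (ConjClasses X) → d * 2 ^ i ∉ D ∧ 2 * (d * 2 ^ i) ∉ D := by
  obtain ⟨f⟩ := e
  obtain ⟨g⟩ : Nonempty (X ≃* Fi22) := hX
  let π : N →* Fi22 := (g.toMonoidHom.comp f.toMonoidHom).comp (QuotientGroup.mk' V)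
  have hπ : Function.Surjective π := (g.surjective.comp f.surjective).comp (QuotientGroup.mk'_surjective V)
  have hker : ∀ x, π x = 1 ↔ x ∈ V := by
    intro x
    change g (f (QuotientGroup.mk' V x)) = 1 ↔ _
    rw [map_eq_one_iff g g.injective, map_eq_one_iff f f.injective, QuotientGroup.mk'_apply, QuotientGroup.eq_one_iff]
  -- the involution
  have hcyc : ∃ c ∈ V, c ≠ 1 ∧ ∀ x ∈ V, x = 1 ∨ x = c := by
    obtain ⟨a, b, hab, hu⟩ := Nat.card_eq_two_iff.1 hV
    have h3 : ∀ x ∈ V, x = (a : N) ∨ x = (b : N) := by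
      intro x hx
      have h4 : (⟨x, hx⟩ : V) ∈ ({a, b} : Set V) := by rw [hu]; trivial
      rcases h4 with h4 | h4
      · exact Or.inl (congrArg Subtype.val h4)
      · exact Or.inr (congrArg Subtype.val h4)
    rcases h3 1 (one_mem V) with h5 | h5
    · refine ⟨b, b.2, fun h6 => hab (Subtype.ext (by rw [← h5, h6])), fun x hx => ?_⟩
      rcases h3 x hx with h6 | h6
      · exact Or.inl (by rw [h6, ← h5])
      · exact Or.inr h6
    · refine ⟨a, a.2, fun h6 => hab (Subtype.ext (by rw [← h5, h6])), fun x hx => ?_⟩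
      rcases h3 x hx with h6 | h6
      · exact Or.inr h6
      · exact Or.inl (by rw [h6, ← h5])
  obtain ⟨c, hcV, hc1, hcc⟩ := hcyc
  have hd : Dbl π c :=
    { ne := hc1
      sq := by
        rcases hcc (c * c) (mul_mem hcV hcV) with h | h
        · exact h
        · exact absurd (mul_eq_left.1 h) hc1
      cen := fun x => ((mem_center_iff.1 (hc hcV)) x).symm
      perf := hp
      surj := hπ
      ker := fun x => by
        rw [hker]
        constructor
        · exact hcc x
        · rintro (rfl | rfl)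
          · exact one_mem V
          · exact hcV }
  obtain ⟨χ, h1, h2, h3⟩ := exists_chi hd
  have hk : Nat.card (ConjClasses X) ≤ 118 := by
    have := finite22
    refine le_trans ?_ H878.EPX.FiK.k_le
    exact Nat.card_le_card_of_surjective (ConjClasses.map g.symm.toMonoidHom) (ConjClasses.map_surjective g.symm.surjective)
  refine ⟨χ, 352, h1, ⟨c, hcV, h2⟩, h3, fun i hi => ?_⟩
  have hi3 : i ≤ 3 := by
    by_contra hcon
    have h4 : 2 ^ (2 * 4) ≤ 2 ^ (2 * i) := Nat.pow_le_pow_right (by norm_num) (by omega)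
    omega
  constructor
  · rw [show 352 * 2 ^ i = 11 * 2 ^ (i + 5) by ring]
    exact not_mem_D ⟨g⟩ hD (by omega) (by omega)
  · rw [show 2 * (352 * 2 ^ i) = 11 * 2 ^ (i + 6) by ring]
    exact not_mem_D ⟨g⟩ hD (by omega) (by omega)

end Cfsg.Agent.H343.S8
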