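import Cfsg.Agent.H343.S8.Theta
import Cfsg.Agent.H471.Eight.CertFi22
import Cfsg.Agent.H713.Spor.Fi22

/-!
# `Fi₂₂` has no irreducible character of degree `11 · 2 ^ k`, `4 ≤ k ≤ 9` (helper343, S4908)
-/

set_option autoImplicit false
set_option maxRecDepth 100000
set_option linter.unusedSectionVars false

namespace Cfsg.Agent.H343.S8

open Cfsg Subgroup Cfsg.Agent.Fischer.Abstract
open Cfsg.Agent.KFacts.FiTTh.BasDef (pr pr_singleton)
open Cfsg.Agent.KFacts.FiTTh.BasFi (e e_inj)
open Cfsg.Agent.KFacts.FiTTh.BasInv (base finite)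
open Cfsg.Agent.Characters.Core
open Cfsg.Agent.Fischer.Fi23Class (K)
open Cfsg.Agent.R08.FiTwentyThree (zK coe_zK zz central mem_K_iff zK_ne pi pi_surjective pi_ker)
open Cfsg.Agent.H653.Sys Cfsg.Agent.H653.Sieve Cfsg.Agent.H471.Eight
open Cfsg.Spor (Fi23 Fi22)
open scoped commutatorElement

theorem card22 : Nat.card Fi22 = 64561751654400 := Cfsg.Agent.S1696.result.2

theorem finite22 : Finite Fi22 := Nat.finite_of_card_ne_zero (by rw [card22]; norm_num)

theorem simple22 : IsSimpleGroup Fi22 := Cfsg.Agent.S1696.result.1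

theorem pi_ne : pi (prK {some 0}) ≠ 1 := by
  intro h
  rcases (pi_ker _).1 h with h1 | h1
  · have h2 : pr e {some 0} = 1 := congrArg Subtype.val h1
    rw [pr_singleton, ← base.toPre.zero] at h2
    exact absurd (e_inj h2) (by decide)
  · have h2 : pr e {some 0} = (zK : Fi23) := congrArg Subtype.val h1
    rw [pr_singleton, zK_eq] at h2
    exact absurd (e_inj h2) (by decide)

theorem pi_sq : pi (prK {some 0}) ^ 2 = 1 := by
  rw [← map_pow, prK_sq, map_one]

theorem commutator22 : commutator Fi22 = ⊤ := by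
  have := simple22
  rcases IsSimpleGroup.eq_bot_or_eq_top_of_normal (commutator Fi22) inferInstance with h1 | h1
  · exfalso
    have hc : ∀ a b : Fi22, a * b = b * a := by
      intro a b
      have h2 : ⁅a, b⁆ ∈ commutator Fi22 := commutator_mem_commutator (mem_top a) (mem_top b)
      rw [h1, mem_bot, commutatorElement_eq_one_iff_mul_comm] at h2
      exact h2
    let _ : CommGroup Fi22 := { (inferInstance : Group Fi22) with mul_comm := hc }
    have := finite22
    have h3 : (Nat.card Fi22).Prime := IsSimpleGroup.prime_card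
    rw [card22] at h3
    norm_num at h3
  · exact h1

theorem small {d : ℕ} (hd : d = 176 ∨ d = 352) : d ∉ charDegrees Fi22 := by
  have := simple22
  have := finite22
  rintro ⟨χ, h1⟩
  have h1' : charDegree (χ : Fi22 → ℂ) = d := h1
  have hdeg := Blocks.Basic.irr_one_eq_charDegree χ.2
  rw [h1'] at hdeg
  have hc := isIrr_comp pi pi_surjective χ.2
  have h2 : ((χ : Fi22 → ℂ) ∘ pi) zK = ((χ : Fi22 → ℂ) ∘ pi) 1 := by
    rw [Function.comp_apply, Function.comp_apply, (pi_ker zK).2 (Or.inr rfl), map_one]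
  have h3 := deg_pos hc h2 (d := d) (by rw [Function.comp_apply, map_one, hdeg]) hd
  rw [Function.comp_apply, Function.comp_apply, map_one] at h3
  have hne : (χ : Fi22 → ℂ) ≠ 1 := by
    intro h
    rw [h, Pi.one_apply] at hdeg
    have : d = 1 := by exact_mod_cast hdeg.symm
    omega
  obtain ⟨z, hz, hz', -⟩ := SmallSimple.InvolColumn.exists_int commutator22 χ.2 hne pi_sq pi_ne
  rw [h3, hdeg] at hz
  have h4 : z = d := by exact_mod_cast hz.symm
  rw [h4, h1', Nat.abs_cast] at hz'
  exact lt_irrefl _ hz'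

theorem chkB : (CertFi22.B.flatten.all fun x => !(Nat.beq x.1 704) && (!(Nat.beq x.1 1408) &&
    (!(Nat.beq x.1 2816) && !(Nat.beq x.1 5632)))) = true := by decide +kernel

theorem large {d : ℕ} (hd : d = 704 ∨ d = 1408 ∨ d = 2816 ∨ d = 5632) : d ∉ charDegrees Fi22 := by
  have := simple22
  have := finite22
  have := finite_irr (G := Fi22)
  have := Fintype.ofFinite (IrrCharacter Fi22)
  rintro ⟨χ, h1⟩
  have h1' : charDegree (χ : Fi22 → ℂ) = d := h1
  have hne : (χ : Fi22 → ℂ) ≠ 1 := by
    intro h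
    have hdeg := Blocks.Basic.irr_one_eq_charDegree χ.2
    rw [h1', h, Pi.one_apply] at hdeg
    have : d = 1 := by exact_mod_cast hdeg.symm
    omega
  have ex : ∀ p : ℕ, p.Prime → p ∣ 64561751654400 → ∃ x : Fi22, orderOf x = p := by
    intro p hp hd
    have := Fact.mk hp
    exact exists_prime_orderOf_dvd_card' (G := Fi22) p (by rw [card22]; exact hd)
  have T : Tab Fi22 (fun g : Fi22 => orderOf g) 64561751654400 CertFi22.L (CertFi22.Ds.map PD.fam) []
      CertFi22.B.flatten := by
    refine Tab.of_primes card22 (by norm_num) (by decide +kernel) (by decide +kernel) rfl (by decide +kernel) ?_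
      CertFi22.hB (by simp)
    intro pk hpk
    simp only [CertFi22.Ds, List.mem_cons, List.not_mem_nil, or_false] at hpk
    rcases hpk with rfl | rfl
    · obtain ⟨x, hx⟩ := ex 13 (by norm_num) (by norm_num)
      exact ⟨x, hx, (H713.Spor.Fi22.cent_13 (MulEquiv.refl _) hx).trans (by norm_num)⟩
    · obtain ⟨x, hx⟩ := ex 11 (by norm_num) (by norm_num)
      exact ⟨x, hx, (H713.Spor.Fi22.cent_11 (MulEquiv.refl _) hx).trans (by norm_num)⟩
  obtain ⟨Ws, -, h2⟩ := T.sys
  have h3 := List.all_eq_true.1 chkB _ (h2 χ hne)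
  have h4 : deg χ = d := h1
  simp only [h4] at h3
  rcases hd with rfl | rfl | rfl | rfl <;> simp at h3

theorem not_mem {k : ℕ} (h4 : 4 ≤ k) (h9 : k ≤ 9) : 11 * 2 ^ k ∉ charDegrees Fi22 := by
  have : k = 4 ∨ k = 5 ∨ k = 6 ∨ k = 7 ∨ k = 8 ∨ k = 9 := by omega
  rcases this with rfl | rfl | rfl | rfl | rfl | rfl
  · exact small (by norm_num)
  · exact small (by norm_num)
  · exact large (by norm_num)
  · exact large (by norm_num)
  · exact large (by norm_num)
  · exact large (by norm_num)

end Cfsg.Agent.H343.S8
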