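import Cfsg.Agent.H343.S8.Wt
import Cfsg.Agent.KFacts.FiTTh.BasInv
import Cfsg.Agent.R08.FiTwentyThree
import Cfsg.Agent.H332.EB.Fi23
import Cfsg.Agent.H174.Ore.TransRk
import Cfsg.Agent.SmallSimple.InvolColumn
import Cfsg.Agent.Characters.CentralCharacter

/-!
# The characters of the centralizer `2.Fi₂₂` of a transposition of `Fi₂₃` on the `2^11` (helper343, S4908)
-/

set_option autoImplicit false
set_option linter.unusedSectionVars false

namespace Cfsg.Agent.H343.S8

open Cfsg Subgroup Cfsg.Agent.KFacts.FiTTh.BasDef Cfsg.Agent.Fischer.Abstract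
open Cfsg.Agent.KFacts.FiTTh.BasFi (e exists_e e_comm e_inj e_z)
open Cfsg.Agent.KFacts.FiTTh.BasInv (base finite)
open Cfsg.Agent.Characters.Core
open Cfsg.Agent.Fischer.Fi23Z (z0)
open Cfsg.Agent.Fischer.Fi23Class (K)
open Cfsg.Agent.R08.FiTwentyThree (zK coe_zK zz central mem_K_iff zK_ne)
open Cfsg.Spor (Fi23)

/-- the point of `z0` -/
abbrev p0 : GolayPt := some 13

theorem A_le : A e ≤ K := by
  intro x hx
  rw [mem_K_iff, ← e_z]
  exact base.toPre.comm' hx (mem_A e _)

theorem pr_mem_K (T : Finset GolayPt) : pr e T ∈ K := A_le (base.toPre.pr_mem T)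

/-- the products in `K` -/
noncomputable def prK (T : Finset GolayPt) : K := ⟨pr e T, pr_mem_K T⟩

/-- the points `none`, `p0` and those of `S` -/
def emb2 {k : ℕ} {S : Finset GolayPt} (eS : Fin k ≃ S) (h0 : none ∉ S) (h1 : p0 ∉ S) : Option (Option (Fin k)) ↪ GolayPt where
  toFun := fun o => o.elim none fun o' => o'.elim p0 fun i => (eS i : GolayPt)
  inj' := by
    rintro (_ | _ | i) (_ | _ | j) hij
    · rfl
    · exact absurd (show (none : GolayPt) = p0 from hij) (by simp)
    · exact absurd (show (none : GolayPt) ∈ S by rw [show (none : GolayPt) = (eS j : GolayPt) from hij]; exact (eS j).2) h0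
    · exact absurd (show p0 = (none : GolayPt) from hij) (by simp)
    · rfl
    · exact absurd (show p0 ∈ S by rw [show p0 = (eS j : GolayPt) from hij]; exact (eS j).2) h1
    · exact absurd (show (none : GolayPt) ∈ S by rw [← show (eS i : GolayPt) = none from hij]; exact (eS i).2) h0
    · exact absurd (show p0 ∈ S by rw [← show (eS i : GolayPt) = p0 from hij]; exact (eS i).2) h1
    · exact congrArg (fun x => some (some x)) (eS.injective (Subtype.ext hij))

theorem map_of {S T : Finset GolayPt} (hS : none ∉ S) (hT : none ∉ T) (hS' : p0 ∉ S) (hT' : p0 ∉ T)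
    (h : S.card = T.card) (h3 : S.card ≤ 3) : ∃ m : M24, (m : Equiv.Perm GolayPt) none = none ∧
      (m : Equiv.Perm GolayPt) p0 = p0 ∧ S.map (m : Equiv.Perm GolayPt).toEmbedding = T := by
  classical
  let eS : Fin S.card ≃ S := (Finset.equivFin S).symm
  let eT : Fin S.card ≃ T := (Finset.equivFinOfCardEq h.symm).symm
  let f := emb2 eS hS hS'
  let g := emb2 eT hT hT'
  let o : Fin (S.card + 2) ≃ Option (Option (Fin S.card)) := (finSuccEquiv _).trans (Equiv.optionCongr (finSuccEquiv _))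
  obtain ⟨m, hm⟩ := Cfsg.Agent.KFacts.FiTTh.BasCode.exists_map_emb (n := S.card + 2) (by omega) (o.toEmbedding.trans f)
    (o.toEmbedding.trans g)
  have hm' : ∀ i, (m : Equiv.Perm GolayPt) (f i) = g i := fun i => by
    have := hm (o.symm i)
    simpa using this
  refine ⟨m, hm' none, hm' (some none), ?_⟩
  apply Finset.eq_of_subset_of_card_le
  · intro p hp
    obtain ⟨q, hq, rfl⟩ := Finset.mem_map.1 hp
    have h1 := hm' (some (some (eS.symm ⟨q, hq⟩)))
    have h2 : f (some (some (eS.symm ⟨q, hq⟩))) = q := by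
      show ((eS (eS.symm ⟨q, hq⟩) : S) : GolayPt) = q
      rw [Equiv.apply_symm_apply]
    rw [h2] at h1
    show (m : Equiv.Perm GolayPt) q ∈ T
    rw [h1]
    exact Subtype.coe_prop (eT (eS.symm ⟨q, hq⟩))
  · rw [Finset.card_map, h]

theorem mem_K_of_conj {n : Fi23} (h : n * z0 * n⁻¹ = z0) : n ∈ K := by
  rw [mem_K_iff]
  conv_rhs => rw [← h]
  group

/-- **the sets of at most three of the 22 points** -/
theorem isConj_prK {S T : Finset GolayPt} (hS : none ∉ S) (hT : none ∉ T) (hS' : p0 ∉ S) (hT' : p0 ∉ T)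
    (h : S.card = T.card) (h3 : S.card ≤ 3) : IsConj (prK S) (prK T) := by
  obtain ⟨m, h0, h1, hmap⟩ := map_of hS hT hS' hT' h h3
  obtain ⟨n, hn⟩ := base.toPre.full m (mem_M23.2 ⟨m.2, h0⟩)
  have hnK : n ∈ K := mem_K_of_conj (by
    have := hn p0
    rwa [h1, e_z] at this)
  refine isConj_iff.2 ⟨⟨n, hnK⟩, Subtype.ext ?_⟩
  show n * pr e S * n⁻¹ = pr e T
  rw [base.toPre.conj_pr hn, hmap]

theorem zK_eq : (zK : Fi23) = e p0 := by rw [coe_zK, e_z]

theorem prK_insert {T : Finset GolayPt} (h : p0 ∉ T) : prK (insert p0 T) = zK * prK T :=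
  Subtype.ext (by
    show pr e (insert p0 T) = (zK : Fi23) * pr e T
    rw [base.toPre.pr_insert h, zK_eq])

/-- the octad -/
theorem octad : Cfsg.Agent.SporadicA.GolayBase.fin 8398155 ∈ octads := (Cfsg.Agent.SporadicA.GolayBase.fin_mem_octads_iff (by norm_num)).2
  ⟨by decide +kernel, by decide +kernel⟩

/-- two halves of the octad -/
def T1 : Finset GolayPt := {some 0, some 1, some 3}
def T2 : Finset GolayPt := {some 6, some 8, some 10}

theorem octad_eq : Cfsg.Agent.SporadicA.GolayBase.fin 8398155 = insert none (insert p0 (symmDiff T1 T2)) := by decide +kernel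

theorem z_T1 : zK * prK T1 = prK T2 := by
  have h1 := base.toPre.pr_oct octad
  rw [octad_eq, base.toPre.pr_insert (by decide +kernel), base.toPre.zero, one_mul,
    base.toPre.pr_insert (by decide +kernel), base.toPre.pr_symmDiff] at h1
  apply Subtype.ext
  show (zK : Fi23) * pr e T1 = pr e T2
  rw [zK_eq]
  calc e p0 * pr e T1 = e p0 * (pr e T1 * pr e T2) * (pr e T2)⁻¹ := by group
    _ = (pr e T2)⁻¹ := by rw [h1, one_mul]
    _ = pr e T2 := inv_eq_of_mul_eq_one_left (base.toPre.pr_sq T2)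

/-! ### central elements -/

theorem central_mul {G : Type*} [Group G] [Finite G] {χ : G → ℂ} (hχ : IsIrrCharacter G χ) {z : G}
    (hz : ∀ g, z * g = g * z) : ∃ c : ℂ, ∀ g, χ (z * g) = c * χ g := by
  obtain ⟨n, ρ, hρ, rfl⟩ := hχ
  obtain ⟨c, hc⟩ := Cfsg.Agent.Characters.CentralCharacter.exists_scalar_of_commute ρ (ρ z) (fun g v => by
    rw [← Module.End.mul_apply, ← map_mul, hz, map_mul]
    rfl)
  refine ⟨c, fun g => ?_⟩
  unfold Representation.character
  rw [map_mul, hc]
  have : (c • (LinearMap.id : (Fin n → ℂ) →ₗ[ℂ] (Fin n → ℂ))) * ρ g = c • ρ g := by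
    ext v
    simp
  rw [this, map_smul, smul_eq_mul]

theorem z_mul {χ : K → ℂ} (hχ : IsIrrCharacter K χ) {ε : ℤ} (h : χ zK = ε * χ 1) (g : K) : χ (zK * g) = ε * χ g := by
  have := finite
  obtain ⟨c, hc⟩ := central_mul hχ central
  have h1 := hc 1
  rw [mul_one, h] at h1
  have h2 : (ε : ℂ) = c := mul_right_cancel₀ (isIrr_apply_one_ne_zero hχ) h1
  rw [hc, h2]

end Cfsg.Agent.H343.S8
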