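import Cfsg.Agent.H343.S8.HVal

/-!
# `2.Fi₂₂`: the weights of the `2^11`, divisibility (helper343, S4908)
-/

set_option autoImplicit false
set_option linter.unusedSectionVars false

namespace Cfsg.Agent.H343.S8

open Cfsg Subgroup Cfsg.Agent.KFacts.FiTTh.BasDef Cfsg.Agent.Fischer.Abstract
open Cfsg.Agent.KFacts.FiTTh.BasFi (e exists_e e_comm e_inj e_z)
open Cfsg.Agent.KFacts.FiTTh.BasInv (base finite)
open Cfsg.Agent.Characters.Core
open Cfsg.Agent.Fischer.Fi23Z (z0)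
open Cfsg.Agent.Fischer.Fi23Class (K)
open Cfsg.Agent.R08.FiTwentyThree (zK coe_zK zz central mem_K_iff zK_ne)
open Cfsg.Spor (Fi23)

theorem isConj_e {p : GolayPt} (hp : p ≠ none) : IsConj z0 (e p) := by
  obtain ⟨i, rfl⟩ := Option.ne_none_iff_exists'.1 hp
  obtain ⟨g, -, hg⟩ := exists_e i
  exact isConj_iff.2 ⟨g, hg⟩

/-- **the degree divides `3510` times the value at a transposition** -/
theorem dvd_3510 (χ : IrrCharacter K) {n v : ℤ} (hn : (χ : K → ℂ) 1 = n) (hv : (χ : K → ℂ) (prK {some 0}) = v) :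
    n ∣ 3510 * v := by
  have hfin := finite
  obtain ⟨R, hR0, hx0, hR⟩ := R08.FiTwentyThree.exists_rank3
  have h := H332.EB.FiTh.r3 R hR
  have hfinX := H332.EB.FiTh.finite_X R hR
  have hfix : ∀ g : K, (g : Fi23) • R.x0 = R.x0 := by
    intro g
    apply R.t_injective
    rw [R.map_smul, hR0, (mem_K_iff _).1 g.2]
    group
  let ι := {y : Fi23 ⧸ K // R.x0 ≠ y ∧ R.Com R.x0 y}
  have hmem : ∀ i : ι, R.t i.1 ∈ K := by
    intro i
    rw [mem_K_iff, ← hR0]
    exact i.2.2.symm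
  let φ : ι → K := fun i => ⟨R.t i.1, hmem i⟩
  -- the transposition `e 0`
  obtain ⟨y0, hy0⟩ : ∃ y, R.t y = e (some 0) := by
    have : e (some 0) ∈ Set.range R.t := by rw [hR]; exact isConj_e (by simp)
    exact this
  have hy0n : R.x0 ≠ y0 := by
    intro h1
    rw [← h1, hR0, ← e_z] at hy0
    exact absurd (e_inj hy0) (by decide)
  have hy0c : R.Com R.x0 y0 := by
    rw [R.com_def, hR0, hy0, ← e_z]
    exact e_comm _ _
  have hφ : ∀ i : ι, (χ : K → ℂ) (φ i) = v := by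
    intro i
    obtain ⟨g, hg1, hg2⟩ := H332.EB.FiTh.com_trans R i.2.1 i.2.2 hy0n hy0c
    have hgK : g ∈ K := mem_K_of_conj (by
      have := R.map_smul g R.x0
      rwa [hg1, hR0, eq_comm] at this)
    have h1 : prK {some 0} = ⟨g, hgK⟩ * φ i * ⟨g, hgK⟩⁻¹ := by
      apply Subtype.ext
      show pr e {some 0} = g * R.t i.1 * g⁻¹
      rw [← R.map_smul, hg2, hy0, pr_singleton]
    rw [← hv, h1]
    exact (isIrr_isClassFunction χ.2 _ _).symm
  refine H174.Ore.Rk.dvd_family χ φ 1 3510 one_ne_zero (fun g => one_dvd _) (fun g k => ?_) hn hφ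
    (by rw [one_mul]; exact Cfsg.Agent.H174.Ore.Rk.RV.card_com h R.x0)
  have hk : ((k⁻¹ : K) : Fi23) • R.x0 = R.x0 := hfix _
  refine Nat.card_congr (Equiv.subtypeEquiv (Equiv.subtypeEquiv (MulAction.toPerm ((k⁻¹ : K) : Fi23)) fun y => ?_)
    fun i => ?_)
  · rw [MulAction.toPerm_apply]
    conv_rhs => rw [← hk]
    rw [R.com_smul, ne_eq, ne_eq, smul_left_cancel_iff]
  · constructor
    · intro e1
      apply Subtype.ext
      have e2 : R.t i.1 = k * g * (k : Fi23)⁻¹ := congrArg Subtype.val e1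
      show R.t (((k⁻¹ : K) : Fi23) • i.1) = g
      rw [R.map_smul, e2, Subgroup.coe_inv]
      group
    · intro e1
      apply Subtype.ext
      have e2 : R.t (((k⁻¹ : K) : Fi23) • i.1) = g := congrArg Subtype.val e1
      show R.t i.1 = k * g * (k : Fi23)⁻¹
      rw [← e2, R.map_smul, Subgroup.coe_inv]
      group

/-! ### the values -/

/-- sets of size `0, 1, 2, 3` -/
def T0 (j : ℕ) : Finset GolayPt := if j = 0 then ∅ else if j = 1 then {some 0} else if j = 2 then {some 0, some 1} else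
  {some 0, some 1, some 3}

theorem T0_prop : ∀ j ≤ 3, none ∉ T0 j ∧ p0 ∉ T0 j ∧ (T0 j).card = j := by decide +kernel

theorem prK_sq (T : Finset GolayPt) : prK T ^ 2 = 1 := by
  apply Subtype.ext
  rw [pow_two]
  exact base.toPre.pr_sq T

/-- the inclusion -/
noncomputable def inc : A e →* K := Subgroup.inclusion A_le

theorem inc_eq {x : A e} {T : Finset GolayPt} (h : (x : Fi23) = pr e T) : inc x = prK T := Subtype.ext h

/-- the values of a character -/
theorem exists_vals {χ : K → ℂ} (hχ : IsIrrCharacter K χ) : ∃ n a b c : ℤ, χ 1 = n ∧ χ (prK {some 0}) = a ∧ |a| ≤ n ∧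
    χ (prK T1) = c ∧ (∀ T : Finset GolayPt, T.card ≤ 3 → none ∉ T → p0 ∉ T → χ (prK T) = ((vv n a b c T.card : ℤ) : ℂ)) := by
  have hfin := finite
  have hch := isIrr_isCharacter hχ
  obtain ⟨n, a, h1, ha, ha', -⟩ := SmallSimple.InvolColumn.exists_int_of_char hch (prK_sq {some 0})
  obtain ⟨-, b, -, hb, -, -⟩ := SmallSimple.InvolColumn.exists_int_of_char hch (prK_sq (T0 2))
  obtain ⟨-, c, -, hc, -, -⟩ := SmallSimple.InvolColumn.exists_int_of_char hch (prK_sq (T0 3))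
  refine ⟨n, a, b, c, by rw [h1]; push_cast; rfl, ha, ha', hc, ?_⟩
  intro T hT hn hp
  obtain ⟨p1, p2, p3⟩ := T0_prop _ hT
  have h2 : χ (prK T) = χ (prK (T0 T.card)) := by
    obtain ⟨g, hg⟩ := isConj_iff.1 (isConj_prK hn p1 hp p2 p3.symm hT)
    rw [← hg]
    exact (isIrr_isClassFunction hχ _ g).symm
  rw [h2]
  have h4 : T.card = 0 ∨ T.card = 1 ∨ T.card = 2 ∨ T.card = 3 := by omega
  rcases h4 with h4 | h4 | h4 | h4 <;> rw [h4]
  · have : prK (T0 0) = 1 := Subtype.ext pr_empty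
    rw [this, h1]
    rfl
  · exact ha
  · exact hb
  · exact hc

/-- the two hypotheses of the weights -/
theorem hyps {χ : K → ℂ} (hχ : IsIrrCharacter K χ) {ε : ℤ} (hε : χ zK = ε * χ 1) {n a b c : ℤ}
    (hv : ∀ T : Finset GolayPt, T.card ≤ 3 → none ∉ T → p0 ∉ T → χ (prK T) = ((vv n a b c T.card : ℤ) : ℂ)) :
    (∀ T : Finset GolayPt, T.card ≤ 3 → none ∉ T → (some 13 : GolayPt) ∉ T → ∀ x : A e, (x : Fi23) = pr e T →
      (χ ∘ inc) x = ((vv n a b c T.card : ℤ) : ℂ)) ∧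
    (∀ T : Finset GolayPt, T.card ≤ 2 → none ∉ T → (some 13 : GolayPt) ∉ T → ∀ x : A e,
      (x : Fi23) = e (some 13) * pr e T → (χ ∘ inc) x = ((ε * vv n a b c T.card : ℤ) : ℂ)) := by
  refine ⟨fun T hT hn hp x hx => ?_, fun T hT hn hp x hx => ?_⟩
  · rw [Function.comp_apply, inc_eq hx]
    exact hv T hT hn hp
  · have h1 : inc x = zK * prK T := Subtype.ext (by
      show (x : Fi23) = (zK : Fi23) * pr e T
      rw [hx, zK_eq])
    rw [Function.comp_apply, h1, z_mul hχ hε, hv T (by omega) hn hp]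
    push_cast
    rfl

theorem pos_case {χ : K → ℂ} (hχ : IsIrrCharacter K χ) (hε : χ zK = χ 1) : ∃ n a b c : ℤ, χ 1 = n ∧
    χ (prK {some 0}) = a ∧ |a| ≤ n ∧ n ∣ 3510 * a ∧
    ∃ w0 w8 w12 w16 : ℕ, (1024 * w0 : ℤ) = n + 22 * a + 231 * b + 770 * c ∧
      (1024 * w8 : ℤ) = n + 6 * a + 7 * b - 14 * c ∧ (1024 * w12 : ℤ) = n - 2 * a - 9 * b + 10 * c ∧
      (1024 * w16 : ℤ) = n - 10 * a + 39 * b - 30 * c := by
  obtain ⟨n, a, b, c, h1, h2, h3, -, h4⟩ := exists_vals hχ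
  obtain ⟨k1, k2⟩ := hyps hχ (ε := 1) (by rw [hε]; push_cast; rw [one_mul]) h4
  exact ⟨n, a, b, c, h1, h2, h3, dvd_3510 ⟨χ, hχ⟩ h1 h2,
    weights_pos base (isCharacter_comp inc (isIrr_isCharacter hχ)) k1 k2⟩

theorem neg_case {χ : K → ℂ} (hχ : IsIrrCharacter K χ) (hε : χ zK = -χ 1) : ∃ n a b : ℤ, χ 1 = n ∧
    χ (prK {some 0}) = a ∧ |a| ≤ n ∧ n ∣ 3510 * a ∧
    ∃ w8 w12 w16 : ℕ, (1024 * w8 : ℤ) = n + 8 * a + 21 * b ∧ (1024 * w12 : ℤ) = n - 11 * b ∧
      (1024 * w16 : ℤ) = n - 8 * a + 21 * b := by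
  obtain ⟨n, a, b, c, h1, h2, h3, h5, h4⟩ := exists_vals hχ
  have hε' : χ zK = ((-1 : ℤ) : ℂ) * χ 1 := by rw [hε]; push_cast; ring
  obtain ⟨k1, k2⟩ := hyps hχ hε' h4
  have hc : c = 0 := by
    have e1 : χ (prK T2) = c := by
      have h6 := h4 T2 (by decide) (by decide) (by decide)
      have h7 : vv n a b c T2.card = c := by
        have : T2.card = 3 := by decide
        rw [this]; rfl
      rwa [h7] at h6
    rw [← z_T1, z_mul hχ hε', h5] at e1
    have e2 : ((-1 * c : ℤ) : ℂ) = ((c : ℤ) : ℂ) := by push_cast; exact_mod_cast e1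
    have e3 : -1 * c = c := by exact_mod_cast e2
    omega
  exact ⟨n, a, b, h1, h2, h3, dvd_3510 ⟨χ, hχ⟩ h1 h2,
    weights_neg base (isCharacter_comp inc (isIrr_isCharacter hχ)) k1 k2 hc⟩

/-- **the faithful characters of degree at most 352** -/
theorem deg_neg {χ : K → ℂ} (hχ : IsIrrCharacter K χ) (hε : χ zK = -χ 1) {d : ℕ} (hd : χ 1 = d) (hd' : d ≤ 352)
    (h0 : 0 < d) : d = 352 := by
  obtain ⟨n, a, b, h1, -, h3, h4, w8, w12, w16, e8, e12, e16⟩ := neg_case hχ hε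
  have hn : n = d := by
    have : ((n : ℤ) : ℂ) = ((d : ℤ) : ℂ) := by rw [← h1, hd]; push_cast; rfl
    exact_mod_cast this
  subst hn
  obtain ⟨k, hk⟩ := h4
  have s1 : (d : ℤ) = 176 * w8 + 176 * w16 + 672 * w12 := by linarith
  have h12 : w12 = 0 := by omega
  subst h12
  have h5 : w8 + w16 = 1 ∨ w8 + w16 = 2 := by omega
  rcases h5 with h5 | h5
  · exfalso
    have h6 : (d : ℤ) = 176 := by
      have : (w8 : ℤ) + w16 = 1 := by exact_mod_cast h5
      push_cast at s1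
      linarith
    have h7 : a = 64 ∨ a = -64 := by
      have h8 : w8 = 0 ∧ w16 = 1 ∨ w8 = 1 ∧ w16 = 0 := by omega
      rcases h8 with ⟨rfl, rfl⟩ | ⟨rfl, rfl⟩
      · right; push_cast at e8 e16; linarith
      · left; push_cast at e8 e16; linarith
    rw [h6] at hk
    rcases h7 with rfl | rfl <;> omega
  · omega

theorem arith {a k : ℤ} {w0 w8 w16 d : ℕ} (hd : d = 176 ∨ d = 352) (s1 : (d : ℤ) = w0 + 77 * w16 + 330 * w8)
    (s2 : a = w0 - 35 * w16 + 90 * w8) (hk : 3510 * a = d * k) : a = d := by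
  have h8 : w8 = 0 ∨ w8 = 1 := by omega
  have h16 : w16 = 0 ∨ w16 = 1 ∨ w16 = 2 ∨ w16 = 3 ∨ w16 = 4 := by omega
  rcases hd with rfl | rfl <;> rcases h8 with rfl | rfl <;> rcases h16 with rfl | rfl | rfl | rfl | rfl <;> omega

/-- **the degrees 176 and 352 of the characters trivial on the centre** -/
theorem deg_pos {χ : K → ℂ} (hχ : IsIrrCharacter K χ) (hε : χ zK = χ 1) {d : ℕ} (hd : χ 1 = d)
    (hd' : d = 176 ∨ d = 352) : χ (prK {some 0}) = χ 1 := by
  obtain ⟨n, a, b, c, h1, h2, h3, h4, w0, w8, w12, w16, e0, e8, e12, e16⟩ := pos_case hχ hε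
  have hn : n = d := by
    have : ((n : ℤ) : ℂ) = ((d : ℤ) : ℂ) := by rw [← h1, hd]; push_cast; rfl
    exact_mod_cast this
  subst hn
  obtain ⟨k, hk⟩ := h4
  have s1 : (d : ℤ) = w0 + 77 * w16 + 330 * w8 + 616 * w12 := by linarith
  have s2 : a = w0 - 35 * w16 + 90 * w8 - 56 * w12 := by linarith
  clear e0 e8 e12 e16 h3
  have h12 : w12 = 0 := by omega
  subst h12
  have key : a = d := arith hd' (by simpa using s1) (by simpa using s2) hk
  rw [h2, h1, key]

end Cfsg.Agent.H343.S8
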