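import Cfsg.Agent.H343.S8.HWt
import Cfsg.Agent.H301.PQ.Fischer

/-!
# `2.Fi₂₂` has a faithful irreducible character of degree 352 (helper343, S4908)
-/

set_option autoImplicit false
set_option linter.unusedSectionVars false

namespace Cfsg.Agent.H343.S8

open Cfsg Subgroup Cfsg.Agent.Fischer.Abstract
open Cfsg.Agent.KFacts.FiTTh.BasInv (finite)
open Cfsg.Agent.Characters.Core
open Cfsg.Agent.Fischer.Fi23Z (z0)
open Cfsg.Agent.Fischer.Fi23Class (K)
open Cfsg.Agent.R08.FiTwentyThree (zK coe_zK zz central mem_K_iff zK_ne)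
open Cfsg.Agent.H301.PQ
open Cfsg.Spor (Fi23)

theorem chkV_true : (chkV 28160 3510 fun a b => (a == 8) && (b == 352)) = true := by decide +kernel

/-- the character of degree 782 -/
theorem exists_782 : ∃ a : IrrCharacter Fi23, (a : Fi23 → ℂ) 1 = 782 ∧ (a : Fi23 → ℂ) z0 = 78 := by
  have hfin := finite
  obtain ⟨R, hR0, -, hR⟩ := R08.FiTwentyThree.exists_rank3
  have h0 := H332.EB.FiTh.r3 R hR
  obtain ⟨b, a, hb, ha, hfix, hval, -, -⟩ := fischer_vals R (id : Fi23 → Fi23) (fun _ _ => rfl) h0 8 352 30888 782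
    chkV_true (by norm_num) (by norm_num)
  obtain ⟨hbt, hat⟩ := hval (R.t R.x0) R.x0 rfl
  refine ⟨a, ?_, ?_⟩
  · rw [Blocks.Basic.irr_one_eq_charDegree a.2, ha]
    norm_num
  · rw [← hR0]
    push_cast at hat
    linear_combination (1 / 360 : ℂ) * hat

theorem sign {χ : K → ℂ} (hχ : IsIrrCharacter K χ) : χ zK = χ 1 ∨ χ zK = -χ 1 := by
  have := finite
  obtain ⟨c, hc⟩ := central_mul hχ central
  have h1 := hc 1
  rw [mul_one] at h1
  have h2 := hc zK
  rw [zz, h1, ← mul_assoc] at h2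
  have h3 : c * c = 1 := by
    have h4 : (1 : ℂ) * χ 1 = c * c * χ 1 := by rw [one_mul]; exact h2
    exact (mul_right_cancel₀ (isIrr_apply_one_ne_zero hχ) h4).symm
  rcases mul_self_eq_one_iff.1 h3 with h4 | h4
  · left; rw [h1, h4, one_mul]
  · right; rw [h1, h4]; ring

/-- **the faithful character of degree 352** -/
theorem exists_theta : ∃ θ : IrrCharacter K, (θ : K → ℂ) zK = -(θ : K → ℂ) 1 ∧ (θ : K → ℂ) 1 = ((352 : ℕ) : ℂ) := by
  classical
  have := finite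
  have := finite_irr (G := K)
  have := Fintype.ofFinite (IrrCharacter K)
  obtain ⟨a, ha1, haz⟩ := exists_782
  obtain ⟨m, hm⟩ := exists_nat_comb (isCharacter_comp K.subtype (isIrr_isCharacter a.2))
  have hpt : ∀ g : K, (a : Fi23 → ℂ) g = ∑ θ : IrrCharacter K, (m θ : ℂ) * (θ : K → ℂ) g := by
    intro g
    have h := congrFun hm g
    simp only [Finset.sum_apply, Pi.smul_apply, nsmul_eq_mul] at h
    exact h
  have hd : ∀ θ : IrrCharacter K, ∃ n : ℕ, 0 < n ∧ (θ : K → ℂ) 1 = n := fun θ => isIrr_apply_one θ.2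
  choose d hd0 hd using hd
  let w : IrrCharacter K → ℕ := fun θ => if (θ : K → ℂ) zK = (θ : K → ℂ) 1 then 0 else 2 * d θ
  have hw : ∀ θ : IrrCharacter K, (θ : K → ℂ) 1 - (θ : K → ℂ) zK = w θ := by
    intro θ
    show _ = ((if (θ : K → ℂ) zK = (θ : K → ℂ) 1 then 0 else 2 * d θ : ℕ) : ℂ)
    by_cases h : (θ : K → ℂ) zK = (θ : K → ℂ) 1
    · rw [if_pos h, h]; simp
    · rw [if_neg h, (sign θ.2).resolve_left h, hd]; push_cast; ring
  have hsum : ∑ θ : IrrCharacter K, m θ * w θ = 704 := by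
    have h1 := hpt 1
    have h2 := hpt zK
    rw [OneMemClass.coe_one, ha1] at h1
    rw [coe_zK, haz] at h2
    have h3 : ((∑ θ : IrrCharacter K, m θ * w θ : ℕ) : ℂ) = ((704 : ℕ) : ℂ) := by
      push_cast
      calc ∑ θ : IrrCharacter K, (m θ : ℂ) * (w θ : ℂ)
          = ∑ θ : IrrCharacter K, ((m θ : ℂ) * (θ : K → ℂ) 1 - (m θ : ℂ) * (θ : K → ℂ) zK) :=
            Finset.sum_congr rfl fun θ _ => by rw [← hw, mul_sub]
        _ = 704 := by rw [Finset.sum_sub_distrib, ← h1, ← h2]; norm_num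
    exact_mod_cast h3
  obtain ⟨θ, hθ⟩ : ∃ θ, m θ * w θ ≠ 0 := by
    by_contra hcon
    push Not at hcon
    rw [Finset.sum_eq_zero fun θ _ => hcon θ] at hsum
    omega
  have hne : ¬ (θ : K → ℂ) zK = (θ : K → ℂ) 1 := by
    intro h
    apply hθ
    show m θ * (if (θ : K → ℂ) zK = (θ : K → ℂ) 1 then 0 else 2 * d θ) = 0
    rw [if_pos h, mul_zero]
  have hneg := (sign θ.2).resolve_left hne
  have hle : m θ * w θ ≤ 704 := by
    rw [← hsum]
    exact Finset.single_le_sum (f := fun θ => m θ * w θ) (fun _ _ => Nat.zero_le _) (Finset.mem_univ θ)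
  have hwθ : w θ = 2 * d θ := if_neg hne
  have hmθ : 1 ≤ m θ := Nat.pos_of_ne_zero fun h => hθ (by rw [h, zero_mul])
  have hle' : d θ ≤ 352 := by
    have : 1 * w θ ≤ m θ * w θ := Nat.mul_le_mul_right _ hmθ
    omega
  refine ⟨θ, hneg, ?_⟩
  rw [hd, deg_neg θ.2 hneg (hd θ) hle' (hd0 θ)]

end Cfsg.Agent.H343.S8
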