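import Cfsg.Agent.H935.Fi23.Weights

/-!
# The weights of the `2^11` for a character of the centralizer of one of the 23 transpositions (helper343, S4908)
-/

set_option autoImplicit false

namespace Cfsg.Agent.H343.S8

open Cfsg Subgroup Cfsg.Agent.KFacts.FiTTh.BasDef Cfsg.Agent.SporadicA.GolayBase
open Cfsg.Agent.Characters.Core Cfsg.Agent.Characters.Linear Cfsg.Agent.H935.Fi23

variable {K : Type*} [Group K] {e : GolayPt → K}

/-- the 22 points -/
def U22 (p₀ : GolayPt) : Finset GolayPt := U23.erase p₀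

theorem insert_U22 {p₀ : GolayPt} (h : p₀ ≠ none) : insert p₀ (U22 p₀) = U23 :=
  Finset.insert_erase (Finset.mem_erase.2 ⟨h, Finset.mem_univ _⟩)

theorem mem_U23 {p₀ : GolayPt} (h : p₀ ≠ none) : p₀ ∈ U23 := Finset.mem_erase.2 ⟨h, Finset.mem_univ _⟩

theorem notMem_U22 {p₀ : GolayPt} : p₀ ∉ U22 p₀ := Finset.notMem_erase _ _

theorem card_U22 {p₀ : GolayPt} (h : p₀ ≠ none) : (U22 p₀).card = 22 := by
  have h1 := card_U23
  rw [← insert_U22 h, Finset.card_insert_of_notMem notMem_U22] at h1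
  omega

theorem sum_U22 {p₀ : GolayPt} (h : p₀ ≠ none) {W : Finset GolayPt} (hn : none ∉ W) :
    ∑ p ∈ U22 p₀, sg W p = 23 - 2 * W.card - sg W p₀ := by
  have h1 := sum_sg hn
  rw [← insert_U22 h, Finset.sum_insert notMem_U22] at h1
  linarith

/-- **the weight of a code word** -/
theorem weight' (B : Base e) {χ : A e → ℂ} (hχ : IsCharacter (A e) χ) {p₀ : GolayPt} (hp : p₀ ≠ none) {v u : ℕ → ℤ}
    (hv : ∀ T : Finset GolayPt, T.card ≤ 3 → none ∉ T → p₀ ∉ T → ∀ x : A e, (x : K) = pr e T → χ x = v T.card)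
    (hu : ∀ T : Finset GolayPt, T.card ≤ 2 → none ∉ T → p₀ ∉ T → ∀ x : A e, (x : K) = e p₀ * pr e T → χ x = u T.card)
    {W : Finset GolayPt} (hW : W ∈ supports (golayCode : Set (GolayPt → ZMod 2))) (hn : none ∉ W) :
    ∃ m : ℕ, (2048 * m : ℤ) = ∑ j ∈ Finset.range 4, v j * es (sg W) (U22 p₀) j +
      sg W p₀ * ∑ j ∈ Finset.range 3, u j * es (sg W) (U22 p₀) j := by
  classical
  have := B.toPre.finA
  have := Fintype.ofFinite (A e)
  obtain ⟨m, hm⟩ := classInner_isNat hχ (isCharacter_hom (lam B hW hn))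
  refine ⟨m, ?_⟩
  rw [classInner_def] at hm
  have hc : (Nat.card (A e) : ℂ) = 2048 := by rw [B.toPre.cardA]; norm_num
  rw [hc, inv_mul_eq_iff_eq_mul₀ (by norm_num)] at hm
  let G : Finset GolayPt → ℤ := fun T => (if p₀ ∈ T then u (T.card - 1) else v T.card) * sgn W T
  have h1 := sum_A B (fun x => χ x * (starRingEnd ℂ) ((lam B hW hn x : ℂˣ) : ℂ))
    (fun T => ((G T : ℤ) : ℂ)) (fun T h1 h2 x hx => by
      show χ x * (starRingEnd ℂ) ((lam B hW hn x : ℂˣ) : ℂ) = (((if p₀ ∈ T then u (T.card - 1) else v T.card) * sgn W T : ℤ) : ℂ)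
      rw [lam_apply B hW hn T x hx]
      by_cases h3 : p₀ ∈ T
      · rw [if_pos h3]
        have h4 : insert p₀ (T.erase p₀) = T := Finset.insert_erase h3
        have h5 : T.card - 1 = (T.erase p₀).card := (Finset.card_erase_of_mem h3).symm
        rw [hu (T.erase p₀) (by rw [← h5]; omega) (fun h => h2 (Finset.mem_of_mem_erase h)) (Finset.notMem_erase _ _) x
          (by rw [hx, ← B.toPre.pr_insert (Finset.notMem_erase _ _), h4]), h5]
        simp
      · rw [if_neg h3, hv T h1 h2 h3 x hx]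
        simp)
  have h2 : ∀ j, ∑ T ∈ (U22 p₀).powersetCard j, G T = v j * es (sg W) (U22 p₀) j := by
    intro j
    rw [es, Finset.mul_sum]
    refine Finset.sum_congr rfl fun T hT => ?_
    obtain ⟨h3, h4⟩ := Finset.mem_powersetCard.1 hT
    show (if p₀ ∈ T then u (T.card - 1) else v T.card) * sgn W T = _
    rw [if_neg fun h => Finset.notMem_erase p₀ U23 (h3 h), h4]
    rfl
  have h3 : ∀ j, ∑ T ∈ U23.powersetCard (j + 1), G T = v (j + 1) * es (sg W) (U22 p₀) (j + 1) +
      sg W p₀ * (u j * es (sg W) (U22 p₀) j) := by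
    intro j
    have hx : p₀ ∉ U22 p₀ := Finset.notMem_erase _ _
    rw [← insert_U22 hp, Finset.powersetCard_succ_insert hx, Finset.sum_union, h2, Finset.sum_image]
    · congr 1
      rw [es, Finset.mul_sum, Finset.mul_sum]
      refine Finset.sum_congr rfl fun T hT => ?_
      obtain ⟨h3, h4⟩ := Finset.mem_powersetCard.1 hT
      have h5 : p₀ ∉ T := fun h => hx (h3 h)
      show (if p₀ ∈ insert p₀ T then u ((insert p₀ T).card - 1) else v (insert p₀ T).card) * sgn W (insert p₀ T) = _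
      rw [if_pos (Finset.mem_insert_self _ _), Finset.card_insert_of_notMem h5, h4, Nat.add_sub_cancel]
      have h6 : sgn W (insert p₀ T) = sg W p₀ * ∏ i ∈ T, sg W i := by
        unfold sgn
        rw [Finset.prod_insert h5]
      rw [h6]
      ring
    · intro S hS T hT h
      have h1 : p₀ ∉ S := fun h => hx ((Finset.mem_powersetCard.1 hS).1 h)
      have h2 : p₀ ∉ T := fun h => hx ((Finset.mem_powersetCard.1 hT).1 h)
      rw [← Finset.erase_insert h1, ← Finset.erase_insert h2]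
      exact congrArg (fun V => Finset.erase V p₀) h
    · rw [Finset.disjoint_left]
      intro T hT h
      obtain ⟨S, -, rfl⟩ := Finset.mem_image.1 h
      exact hx ((Finset.mem_powersetCard.1 hT).1 (Finset.mem_insert_self _ _))
  have h4 : ∑ T ∈ U23.powersetCard 0, G T = v 0 * es (sg W) (U22 p₀) 0 := by
    rw [← h2 0, Finset.powersetCard_zero, Finset.powersetCard_zero]
  have h5 : ((2048 * m : ℤ) : ℂ) = ((∑ j ∈ Finset.range 4, ∑ T ∈ U23.powersetCard j, G T : ℤ) : ℂ) := by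
    push_cast
    rw [← hm]
    exact h1
  have h6 : (2048 * m : ℤ) = ∑ j ∈ Finset.range 4, ∑ T ∈ U23.powersetCard j, G T := by exact_mod_cast h5
  rw [h6, Finset.sum_range_succ, Finset.sum_range_succ, Finset.sum_range_succ, Finset.sum_range_one, h4, h3 0, h3 1,
    h3 2, Finset.sum_range_succ (n := 3), Finset.sum_range_succ (n := 2), Finset.sum_range_succ (n := 1),
    Finset.sum_range_one, Finset.sum_range_succ (n := 2), Finset.sum_range_succ (n := 1), Finset.sum_range_one]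
  ring


/-- the values -/
def vv (n a b c : ℤ) (j : ℕ) : ℤ := if j = 0 then n else if j = 1 then a else if j = 2 then b else c

theorem key (B : Base e) {χ : A e → ℂ} (hχ : IsCharacter (A e) χ) {n a b c ε : ℤ}
    (hv : ∀ T : Finset GolayPt, T.card ≤ 3 → none ∉ T → (some 13 : GolayPt) ∉ T → ∀ x : A e, (x : K) = pr e T →
      χ x = ((vv n a b c T.card : ℤ) : ℂ))
    (hu : ∀ T : Finset GolayPt, T.card ≤ 2 → none ∉ T → (some 13 : GolayPt) ∉ T → ∀ x : A e,
      (x : K) = e (some 13) * pr e T → χ x = ((ε * vv n a b c T.card : ℤ) : ℂ))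
    (m k : ℕ) (hm : m < 2 ^ 24) (hcode : Cfsg.Agent.SporadicA.GolayBase.isCode m = true) (hk : popcount m = k)
    (hn : none ∉ fin m) (δ : ℤ) (hδ : sg (fin m) (some 13) = δ) : ∃ w : ℕ, ∃ s : ℤ, s = 23 - 2 * k - δ ∧
        (12 * (2048 * w) : ℤ) = 12 * (1 + δ * ε) * n + 12 * (1 + δ * ε) * s * a +
          6 * (1 + δ * ε) * (s ^ 2 - 22) * b + 2 * (s ^ 3 - 64 * s) * c := by
  have h13 : (some 13 : GolayPt) ≠ none := by simp
  obtain ⟨w, hw⟩ := weight' B hχ h13 (v := vv n a b c) (u := fun j => ε * vv n a b c j) hv hu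
    ((fin_mem_supports_iff hm).2 hcode) hn
  refine ⟨w, 23 - 2 * k - δ, rfl, ?_⟩
  have h5 := sum_U22 h13 hn
  rw [card_fin, hk, hδ] at h5
  obtain ⟨h6, h7, h8⟩ := newton (sg_sq (fin m)) (U22 (some 13))
  rw [h5] at h6 h7 h8
  rw [card_U22 h13] at h7 h8
  rw [Finset.sum_range_succ, Finset.sum_range_succ, Finset.sum_range_succ, Finset.sum_range_one,
    Finset.sum_range_succ, Finset.sum_range_succ, Finset.sum_range_one, es_zero, h6, hδ] at hw
  have v0 : vv n a b c 0 = n := rfl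
  have v1 : vv n a b c 1 = a := rfl
  have v2 : vv n a b c 2 = b := rfl
  have v3 : vv n a b c 3 = c := rfl
  simp only [v0, v1, v2, v3] at hw
  push_cast at h7 h8
  linear_combination 12 * hw + 6 * (1 + δ * ε) * b * h7 + 2 * c * h8

/-- **trivial on `p₀`** -/
theorem weights_pos (B : Base e) {χ : A e → ℂ} (hχ : IsCharacter (A e) χ) {n a b c : ℤ}
    (hv : ∀ T : Finset GolayPt, T.card ≤ 3 → none ∉ T → (some 13 : GolayPt) ∉ T → ∀ x : A e, (x : K) = pr e T →
      χ x = ((vv n a b c T.card : ℤ) : ℂ))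
    (hu : ∀ T : Finset GolayPt, T.card ≤ 2 → none ∉ T → (some 13 : GolayPt) ∉ T → ∀ x : A e,
      (x : K) = e (some 13) * pr e T → χ x = ((1 * vv n a b c T.card : ℤ) : ℂ)) :
    ∃ w0 w8 w12 w16 : ℕ, (1024 * w0 : ℤ) = n + 22 * a + 231 * b + 770 * c ∧
      (1024 * w8 : ℤ) = n + 6 * a + 7 * b - 14 * c ∧ (1024 * w12 : ℤ) = n - 2 * a - 9 * b + 10 * c ∧
      (1024 * w16 : ℤ) = n - 10 * a + 39 * b - 30 * c := by
  obtain ⟨w0, s0, hs0, e0⟩ := key B hχ hv hu 0 0 (by norm_num) (by decide +kernel) (by decide +kernel)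
    (by decide +kernel) 1 (by decide +kernel)
  obtain ⟨w8, s8, hs8, e8⟩ := key B hχ hv hu 5279 8 (by norm_num) (by decide +kernel) (by decide +kernel)
    (by decide +kernel) 1 (by decide +kernel)
  obtain ⟨w12, s12, hs12, e12⟩ := key B hχ hv hu 57274 12 (by norm_num) (by decide +kernel) (by decide +kernel)
    (by decide +kernel) 1 (by decide +kernel)
  obtain ⟨w16, s16, hs16, e16⟩ := key B hχ hv hu 515069 16 (by norm_num) (by decide +kernel) (by decide +kernel)
    (by decide +kernel) 1 (by decide +kernel)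
  rw [hs0] at e0
  rw [hs8] at e8
  rw [hs12] at e12
  rw [hs16] at e16
  refine ⟨w0, w8, w12, w16, ?_, ?_, ?_, ?_⟩
  · norm_num at e0; linarith
  · norm_num at e8; linarith
  · norm_num at e12; linarith
  · norm_num at e16; linarith

/-- **not trivial on `p₀`** -/
theorem weights_neg (B : Base e) {χ : A e → ℂ} (hχ : IsCharacter (A e) χ) {n a b c : ℤ}
    (hv : ∀ T : Finset GolayPt, T.card ≤ 3 → none ∉ T → (some 13 : GolayPt) ∉ T → ∀ x : A e, (x : K) = pr e T →
      χ x = ((vv n a b c T.card : ℤ) : ℂ))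
    (hu : ∀ T : Finset GolayPt, T.card ≤ 2 → none ∉ T → (some 13 : GolayPt) ∉ T → ∀ x : A e,
      (x : K) = e (some 13) * pr e T → χ x = ((-1 * vv n a b c T.card : ℤ) : ℂ)) (hc : c = 0) :
    ∃ w8 w12 w16 : ℕ, (1024 * w8 : ℤ) = n + 8 * a + 21 * b ∧ (1024 * w12 : ℤ) = n - 11 * b ∧
      (1024 * w16 : ℤ) = n - 8 * a + 21 * b := by
  obtain ⟨w8, s8, hs8, e8⟩ := key B hχ hv hu 10558 8 (by norm_num) (by decide +kernel) (by decide +kernel)
    (by decide +kernel) (-1) (by decide +kernel)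
  obtain ⟨w12, s12, hs12, e12⟩ := key B hχ hv hu 28637 12 (by norm_num) (by decide +kernel) (by decide +kernel)
    (by decide +kernel) (-1) (by decide +kernel)
  obtain ⟨w16, s16, hs16, e16⟩ := key B hχ hv hu 720871 16 (by norm_num) (by decide +kernel) (by decide +kernel)
    (by decide +kernel) (-1) (by decide +kernel)
  rw [hs8, hc] at e8
  rw [hs12, hc] at e12
  rw [hs16, hc] at e16
  refine ⟨w8, w12, w16, ?_, ?_, ?_⟩
  · norm_num at e8; linarith
  · norm_num at e12; linarith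
  · norm_num at e16; linarith

end Cfsg.Agent.H343.S8
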